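import Cfsg.Agent.H304.R7.XOne

/-!
# `Fi24'`: elements of order 9 whose cube has width 6: the bound (helper304)

`x_one` : `|C(g)| ≤ 7558272` for every `g` of order 9 of `Fi24'` whose cube is conjugate to `X 1` or its inverse.
-/

set_option autoImplicit false
set_option maxRecDepth 100000

namespace Cfsg.Agent.H304.R7.XOne

open Subgroup
open Cfsg Cfsg.Agent.Fischer.Fi24Final
open Cfsg.Agent.H841.Sev
open Cfsg.Agent.LThreeFi24.SNine (x2)
open Cfsg.Agent.R08.FiTwentyFour (L mem_commutator_iff sgn_L mul_mem_commutator)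
open Cfsg.Agent.H48.OreFi
open Cfsg.Agent.H48.OreFi.WOne (C' C'_le card_C' exists_inter fx mem_fx pow_iter a6l_id card_W x2_ne cl ca)
open Cfsg.Spor (Fi24)

local notation "gn" => Cfsg.Agent.Fischer.Fi24Class.gen

theorem finite24 : Finite Fi24 := Cfsg.Agent.R08.FiTwentyFour.finite_Fi24

/-- elements of order 5 or 7 do not commute with `g` -/
theorem no_prime {g x : Fi24} (hY : g ∈ NY) (ho : g ^ 9 = 1) (h3 : g ^ 3 = x2) (hxY : x ∈ NY) (hc : Commute x g) {r : ℕ}
    (hr : r = 5 ∨ r = 7) (hx : orderOf x = r) : False := by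
  let k : O6 := Ps ⟨x, hxY⟩
  let m : O6 := Ps ⟨g, hY⟩
  have hkm : ∀ u, a6l k (a6l m u) = a6l m (a6l k u) := by
    intro u
    have e : k * m = m * k := by
      rw [← map_mul, ← map_mul]
      congr 1
      exact Subtype.ext hc.eq
    show a6 k (a6 m u) = a6 m (a6 k u)
    rw [← a6_mul, ← a6_mul, e]
  have hkr : (⇑(a6l k))^[r] = id := by
    rw [pow_iter]
    have : k ^ r = 1 := by
      rw [← map_pow]
      have e : (⟨x, hxY⟩ : NY) ^ r = 1 := Subtype.ext (by
        show x ^ r = 1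
        rw [← hx]; exact pow_orderOf_eq_one x)
      rw [e, map_one]
    rw [this]
    funext u
    exact a6_one u
  have hm9 : (⇑(a6l m))^[3 ^ 2] = id := by
    rw [pow_iter]
    have : m ^ 3 ^ 2 = 1 := by
      rw [← map_pow]
      have e : (⟨g, hY⟩ : NY) ^ 3 ^ 2 = 1 := Subtype.ext ho
      rw [e, map_one]
    rw [this]
    funext u
    exact a6_one u
  have hk := Quad.eq_id (k := a6l k) (m := a6l m) hkr
    (by rcases hr with rfl | rfl <;> decide) hm9 hkm (fun u hu =>
      Quad.fix_small (S := fx (a6l m)) (k := a6l k) card_W (card_fx_le hY h3) (fun w hw => by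
        rw [mem_fx, ← hkm, mem_fx.1 hw]) hr hkr u (mem_fx.2 hu))
  have hxA : x ∈ A := Ps_eq_one.1 (a6l_id hk)
  have hx3 : orderOf x ∣ 3 := orderOf_dvd_of_pow_eq_one (A_cube hxA)
  rw [hx] at hx3
  rcases hr with rfl | rfl
  · omega
  · omega

/-- the order of the group induced on `y2^⊥` by `C'` -/
theorem card_range : Nat.card ((Ps.comp (Subgroup.inclusion C'_le)).range) = 2 ^ 8 * 3 ^ 6 * 5 * 7 := by
  have hfin := finite24
  have hAC : A ≤ C' := by
    intro a ha
    refine ⟨mem_centralizer_singleton_iff.2 ?_, mem_commutator_iff.2 ?_⟩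
    · rw [x2_vec]; exact (A_comm ha (vec_mem _)).eq
    · have h1 : sgn a ^ 3 = 1 := by rw [← map_pow, A_cube ha, map_one]
      rcases Int.units_eq_one_or (sgn a) with h | h
      · exact h
      · rw [h] at h1
        exact absurd h1 (by decide)
  have h1 := Subgroup.card_mul_index (Ps.comp (Subgroup.inclusion C'_le)).ker
  rw [Subgroup.index_ker, card_C'] at h1
  have h2 : (Ps.comp (Subgroup.inclusion C'_le)).ker = A.subgroupOf C' := by
    ext x
    rw [MonoidHom.mem_ker, mem_subgroupOf]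
    exact Ps_eq_one
  rw [h2, Nat.card_congr (subgroupOfEquivOfLe hAC).toEquiv, card_A] at h1
  omega

theorem bound_x2 {g : Spor.Fi24'} (hg : orderOf g = 9) (hp : (g : Fi24) ^ 3 = x2) :
    Nat.card (centralizer ({g} : Set Spor.Fi24')) ≤ 7558272 := by
  have hfin := finite24
  have f2 : Fact (Nat.Prime 2) := ⟨Nat.prime_two⟩
  let K : Subgroup Fi24 := centralizer ({(g : Fi24)} : Set Fi24) ⊓ commutator Fi24
  have cK : Nat.card (centralizer ({g} : Set Spor.Fi24')) = Nat.card K := by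
    have e1 : K = (centralizer ({g} : Set Spor.Fi24')).map (commutator Fi24).subtype := by
      ext x
      constructor
      · rintro ⟨h1, h2⟩
        refine ⟨⟨x, h2⟩, ?_, rfl⟩
        have h3 : x * (g : Fi24) = g * x := mem_centralizer_singleton_iff.1 h1
        exact mem_centralizer_singleton_iff.2 (Subtype.ext h3)
      · rintro ⟨x, hx, rfl⟩
        refine ⟨?_, x.2⟩
        have hx' : x * g = g * x := mem_centralizer_singleton_iff.1 hx
        exact mem_centralizer_singleton_iff.2 (congrArg Subtype.val hx')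
    rw [e1]
    exact Nat.card_congr ((centralizer ({g} : Set Spor.Fi24')).equivMapOfInjective _
      (Subgroup.subtype_injective _)).toEquiv
  have hKg : ∀ x ∈ K, Commute x (g : Fi24) := fun x hx => mem_centralizer_singleton_iff.1 hx.1
  have hKC : K ≤ C' := by
    intro x hx
    refine ⟨mem_centralizer_singleton_iff.2 ?_, hx.2⟩
    rw [← hp]
    exact ((hKg x hx).pow_right _).eq
  have hgC : (g : Fi24) ∈ C' := hKC ⟨mem_centralizer_singleton_iff.2 rfl, g.2⟩
  have hgY : (g : Fi24) ∈ NY := C'_le hgC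
  have hgN : (g : Fi24) ∈ N := NY_le_N hgY
  have ho : orderOf (g : Fi24) = 9 := by rw [Subgroup.orderOf_coe, hg]
  have hodd : Odd (orderOf (g : Fi24)) := by rw [ho]; decide
  have h9 : (g : Fi24) ^ 9 = 1 := by rw [← ho]; exact pow_orderOf_eq_one _
  -- the primes 5 and 7
  have n57 : ∀ r : ℕ, r = 5 ∨ r = 7 → ¬ r ∣ Nat.card K := by
    intro r hr h
    have fr : Fact (Nat.Prime r) := ⟨by rcases hr with rfl | rfl <;> norm_num⟩
    obtain ⟨x, hx⟩ := exists_prime_orderOf_dvd_card' r h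
    exact no_prime hgY h9 hp (C'_le (hKC x.2)) (hKg x x.2) hr (by rw [Subgroup.orderOf_coe, hx])
  -- the prime 2
  have n2 : ¬ 2 ^ 8 ∣ Nat.card K := by
    intro h
    obtain ⟨T₀, hT₀⟩ := Sylow.exists_subgroup_card_pow_prime 2 h
    let T : Subgroup Fi24 := T₀.map K.subtype
    have cT : Nat.card T = 2 ^ 8 := by
      rw [← hT₀]
      exact Nat.card_congr (T₀.equivMapOfInjective _ K.subtype_injective).symm.toEquiv
    have hTK : T ≤ K := by rintro _ ⟨x, -, rfl⟩; exact x.2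
    have lL := Cfsg.Agent.R08.FiTwentyFour.gen_mem_L .l
    have aL := Cfsg.Agent.R08.FiTwentyFour.gen_mem_L .a
    have hla : Commute (gn .l) (gn .a) := (Cfsg.Agent.Fischer.Fi24Class.comm_l .a (by decide)).symm
    have hne : gn .l ≠ gn .a := (Cfsg.Agent.Fischer.Fi24Class.a_ne_l Cfsg.Agent.R08.FiTwentyFour.facts.card_ne).symm
    have hla2 : (gn .l * gn .a) ^ 2 = (1 : Fi24) := by
      rw [pow_two, show gn .l * gn .a * (gn .l * gn .a) = gn .l * (gn .a * gn .l) * gn .a by group, hla.symm.eq,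
        show gn .l * (gn .l * gn .a) * gn .a = (gn .l * gn .l) * (gn .a * gn .a) by group,
        Cfsg.Agent.R08.FiTwentyFour.sq lL, Cfsg.Agent.R08.FiTwentyFour.sq aL, one_mul]
    have hla1 : gn .l * gn .a ≠ (1 : Fi24) := by
      intro h
      apply hne
      exact mul_right_cancel (h.trans (Cfsg.Agent.R08.FiTwentyFour.sq aL).symm)
    let E : Subgroup Fi24 := zpowers (gn .l * gn .a)
    have cE : Nat.card E = 2 ^ 1 := by rw [Nat.card_zpowers, orderOf_eq_prime hla2 hla1, pow_one]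
    have hE : E ≤ C' := by
      rw [zpowers_le]
      exact ⟨mem_centralizer_singleton_iff.2 (cl.mul_left ca).eq, mul_mem_commutator lL aL⟩
    have hn : ¬ 2 ^ (8 + 1) ∣ Nat.card C' := by rw [card_C']; norm_num
    obtain ⟨y, hyC, hy⟩ := exists_inter (hTK.trans hKC) hE cT cE hn (m := 1) (by norm_num)
    have hnt : Nontrivial (T ⊓ E.map (MulAut.conj y).toMonoidHom : Subgroup Fi24) := by
      rw [← Finite.one_lt_card_iff_nontrivial]
      omega
    obtain ⟨w, hw⟩ := exists_ne (1 : (T ⊓ E.map (MulAut.conj y).toMonoidHom : Subgroup Fi24))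
    obtain ⟨hwT, v, hv, hvw⟩ := w.2
    have hv2 : v = 1 ∨ v = gn .l * gn .a := by
      obtain ⟨n, rfl⟩ := mem_zpowers_iff.1 hv
      rcases Int.even_or_odd' n with ⟨c, rfl | rfl⟩
      · left
        rw [zpow_mul, show (gn .l * gn .a : Fi24) ^ (2 : ℤ) = (gn .l * gn .a) ^ 2 from rfl, hla2, one_zpow]
      · right
        rw [zpow_add, zpow_mul, show (gn .l * gn .a : Fi24) ^ (2 : ℤ) = (gn .l * gn .a) ^ 2 from rfl, hla2, one_zpow,
          one_mul, zpow_one]
    rcases hv2 with rfl | rfl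
    · apply hw
      apply Subtype.ext
      rw [← hvw]
      exact map_one _
    · have h1 : (w : Fi24) = (y * gn .l * y⁻¹) * (y * gn .a * y⁻¹) := by
        rw [← hvw]
        show y * (gn .l * gn .a) * y⁻¹ = _
        group
      have h2 : Commute (g : Fi24) ((y * gn .l * y⁻¹) * (y * gn .a * y⁻¹)) := by
        rw [← h1]; exact (hKg _ (hTK hwT)).symm
      have hcc : Commute (y * gn .l * y⁻¹) (y * gn .a * y⁻¹) := by
        show y * gn .l * y⁻¹ * (y * gn .a * y⁻¹) = y * gn .a * y⁻¹ * (y * gn .l * y⁻¹)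
        calc y * gn .l * y⁻¹ * (y * gn .a * y⁻¹) = y * (gn .l * gn .a) * y⁻¹ := by group
          _ = y * (gn .a * gn .l) * y⁻¹ := by rw [hla.eq]
          _ = _ := by group
      have g1 : Commute (g : Fi24) (y * gn .l * y⁻¹) := by
        refine NineA.comm_all Cfsg.Agent.R08.TetFi24A.tr hodd
          (Cfsg.Agent.R08.FiTwentyFour.conj lL y) (Cfsg.Agent.R08.FiTwentyFour.conj aL y) ?_ hcc h2
        intro h
        exact hne (mul_left_cancel (mul_right_cancel h))
      have g2 : Commute (g : Fi24) (y * gn .a * y⁻¹) := by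
        refine NineA.comm_all Cfsg.Agent.R08.TetFi24A.tr hodd
          (Cfsg.Agent.R08.FiTwentyFour.conj aL y) (Cfsg.Agent.R08.FiTwentyFour.conj lL y) ?_ hcc.symm ?_
        · intro h
          exact hne (mul_left_cancel (mul_right_cancel h)).symm
        · rw [hcc.symm.eq]; exact h2
      exact not_both hgN hodd hp (NY_le_N (C'_le hyC)) (mem_centralizer_singleton_iff.1 hyC.1) g1 g2
  -- the order
  have h1 := Subgroup.card_mul_index (Ps.comp (Subgroup.inclusion (hKC.trans C'_le))).ker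
  rw [Subgroup.index_ker] at h1
  have h2 : Nat.card (Ps.comp (Subgroup.inclusion (hKC.trans C'_le))).range ∣ 2 ^ 8 * 3 ^ 6 * 5 * 7 := by
    rw [← card_range]
    apply Subgroup.card_dvd_of_le
    rintro _ ⟨x, rfl⟩
    exact ⟨⟨x, hKC x.2⟩, rfl⟩
  have h3 : Nat.card (Ps.comp (Subgroup.inclusion (hKC.trans C'_le))).ker = Nat.card (K ⊓ A : Subgroup Fi24) := by
    have e : (Ps.comp (Subgroup.inclusion (hKC.trans C'_le))).ker = (K ⊓ A).subgroupOf K := by
      ext x
      rw [MonoidHom.mem_ker, mem_subgroupOf, mem_inf]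
      constructor
      · intro h; exact ⟨x.2, Ps_eq_one.1 h⟩
      · rintro ⟨-, h⟩; exact Ps_eq_one.2 h
    rw [e]
    exact Nat.card_congr (subgroupOfEquivOfLe inf_le_left).toEquiv
  have h4 : Nat.card (K ⊓ A : Subgroup Fi24) ≤ 81 := by
    refine le_trans ?_ (card_comm hgY hp)
    have hex : ∀ x : (K ⊓ A : Subgroup Fi24), ∃ v : {v : V // Commute (g : Fi24) (vec v)}, vec (v : V) = x := by
      intro x
      obtain ⟨v, hv⟩ := mem_A.1 x.2.2
      exact ⟨⟨v, by rw [hv]; exact (hKg _ x.2.1).symm⟩, hv⟩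
    choose f hf using hex
    apply Nat.card_le_card_of_injective f
    intro x y hxy
    apply Subtype.ext
    rw [← hf x, ← hf y, hxy]
  obtain ⟨s, -, hs⟩ := (Nat.dvd_prime_pow Nat.prime_three).1
    (card_A ▸ Subgroup.card_dvd_of_le (inf_le_right : (K ⊓ A : Subgroup Fi24) ≤ A))
  have hs4 : s ≤ 4 := by
    by_contra hcon
    have : 3 ^ 5 ≤ 3 ^ s := Nat.pow_le_pow_right (by norm_num) (by omega)
    omega
  have hdvd : Nat.card K ∣ 2 ^ 8 * 3 ^ 10 * 5 * 7 := by
    rw [← h1, h3, hs]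
    have : (2 : ℕ) ^ 8 * 3 ^ 10 * 5 * 7 = 3 ^ 4 * (2 ^ 8 * 3 ^ 6 * 5 * 7) := by norm_num
    rw [this]
    exact Nat.mul_dvd_mul (pow_dvd_pow 3 hs4) h2
  have d1 : Nat.card K ∣ 2 ^ 8 * 3 ^ 10 * 5 :=
    (Nat.Coprime.dvd_of_dvd_mul_right
      ((Nat.Prime.coprime_iff_not_dvd (by norm_num)).2 (n57 7 (Or.inr rfl))).symm hdvd)
  have d2 : Nat.card K ∣ 2 ^ 8 * 3 ^ 10 :=
    (Nat.Coprime.dvd_of_dvd_mul_right
      ((Nat.Prime.coprime_iff_not_dvd (by norm_num)).2 (n57 5 (Or.inl rfl))).symm d1)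
  rw [cK]
  obtain ⟨x, y, hx, hy, hxy⟩ := (Nat.dvd_mul).1 d2
  obtain ⟨i, hi, rfl⟩ := (Nat.dvd_prime_pow Nat.prime_two).1 hx
  obtain ⟨j, hj, rfl⟩ := (Nat.dvd_prime_pow Nat.prime_three).1 hy
  have hi8 : i ≤ 7 := by
    by_contra hcon
    have : i = 8 := by omega
    subst this
    exact n2 (by rw [← hxy]; exact dvd_mul_right _ _)
  calc Nat.card K = 2 ^ i * 3 ^ j := hxy.symm
    _ ≤ 2 ^ 7 * 3 ^ 10 := Nat.mul_le_mul (Nat.pow_le_pow_right (by norm_num) hi8) (Nat.pow_le_pow_right (by norm_num) hj)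
    _ = 7558272 := by norm_num

/-- **the elements of order 9 whose cube has width 6** -/
theorem x_one {g : Spor.Fi24'} (hg : orderOf g = 9)
    (h : ∃ y : Fi24, y * (g : Fi24) ^ 3 * y⁻¹ = Cfsg.Agent.H842.ThreeCl.X 1 ∨
      y * (g : Fi24) ^ 3 * y⁻¹ = (Cfsg.Agent.H842.ThreeCl.X 1)⁻¹) :
    Nat.card (centralizer ({g} : Set Spor.Fi24')) ≤ 7558272 := by
  have key : ∀ k : Spor.Fi24', orderOf k = 9 → (k : Fi24) ^ 3 = Cfsg.Agent.H842.ThreeCl.X 1 →
      Nat.card (centralizer ({k} : Set Spor.Fi24')) ≤ 7558272 := by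
    intro k hk hk3
    obtain ⟨r, hr⟩ : ∃ r : Fi24, r = Cfsg.Agent.Fischer.Fi24Rep.word Cfsg.Agent.H841.Sev.ur := ⟨_, rfl⟩
    have hx : r * (k : Fi24) ^ 3 * r⁻¹ = x2 := by
      rw [hk3, hr]
      exact Cfsg.Agent.H841.Sev.x2_conj
    rw [← Nine.card_cent_equiv (Nine.cj r) k]
    refine bound_x2 (by rw [MulEquiv.orderOf_eq, hk]) ?_
    rw [Nine.coe_cj, conj_pow]
    exact hx
  obtain ⟨y, hy⟩ := h
  rcases hy with hy | hy
  · rw [← Nine.card_cent_equiv (Nine.cj y) g]
    refine key _ (by rw [MulEquiv.orderOf_eq, hg]) ?_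
    rw [Nine.coe_cj, conj_pow]
    exact hy
  · rw [← Nine.card_cent_equiv (Nine.cj y) g, ← Nine.card_cent_inv]
    refine key _ (by rw [orderOf_inv, MulEquiv.orderOf_eq, hg]) ?_
    show (((Nine.cj y g : Spor.Fi24') : Fi24)⁻¹) ^ 3 = _
    rw [inv_pow, Nine.coe_cj, conj_pow, hy, inv_inv]

end Cfsg.Agent.H304.R7.XOne
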