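import Cfsg.Agent.H48.OreFi.WOne
import Cfsg.Agent.H304.R7.Quad

/-!
# `Fi24'`: elements of order 9 whose cube has width 6 (helper304)

`x_one` : `|C(g)| ≤ 7558272` for every `g` of order 9 of `Fi24'` whose cube is conjugate to `X 1` or its inverse.
-/

set_option autoImplicit false
set_option maxRecDepth 100000

namespace Cfsg.Agent.H304.R7.XOne

open Subgroup
open Cfsg Cfsg.Agent.Fischer.Fi24Final
open Cfsg.Agent.H841.Sev
open Cfsg.Agent.LThreeFi24.SNine (x2)
open Cfsg.Agent.R08.FiTwentyFour (L mem_commutator_iff sgn_L mul_mem_commutator)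
open Cfsg.Agent.H48.OreFi
open Cfsg.Agent.H48.OreFi.WOne (C' C'_le card_C' exists_inter fx mem_fx pow_iter a6l_id card_W x2_ne cl ca)
open Cfsg.Spor (Fi24)

local notation "gn" => Cfsg.Agent.Fischer.Fi24Class.gen

theorem cube_aux {G : Type*} [Group G] {g t a : G} (h7 : g * t = t * a * g) (h6 : g * a = a * g)
    (h8 : a * a * a = 1) : g ^ 3 * t = t * g ^ 3 := by
  have h7' : ∀ x, g * (t * x) = t * (a * (g * x)) := fun x => by rw [← mul_assoc, h7]; simp only [mul_assoc]
  have h6' : ∀ x, g * (a * x) = a * (g * x) := fun x => by rw [← mul_assoc, h6, mul_assoc]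
  have h8' : ∀ x, a * (a * (a * x)) = x := fun x => by rw [← mul_assoc, ← mul_assoc, h8, one_mul]
  rw [mul_assoc] at h7
  rw [pow_three]
  simp only [mul_assoc, h7, h7', h6', h8']

/-- the matrix of `g` fixes the vectors commuting with `g` -/
theorem ac_fix {g : Fi24} (hN : g ∈ N) {c : V} (hg : Commute g (vec c)) : ac (Ph ⟨g, hN⟩) c = c := by
  apply vec_inj
  rw [← Ph_spec ⟨g, hN⟩ c]
  show g * vec c * g⁻¹ = vec c
  rw [hg.eq, mul_inv_cancel_right]

/-- **the three transpositions over a fixed reflection** -/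
theorem lam {g : Fi24} (hN : g ∈ N) {c : V} (hg : Commute g (vec c)) {t : Fi24} (ht : t ∈ L) (h : Cen t c) :
    Commute (g ^ 3) t := by
  have h2 : Cen (g * t * g⁻¹) c := by
    have := h.conj hN
    rwa [ac_fix hN hg] at this
  obtain ⟨v, hv⟩ := mem_A.1 (h.mul_mem h2)
  have t2 : t * t = 1 := Cfsg.Agent.R08.FiTwentyFour.sq ht
  have tinv : t⁻¹ = t := inv_eq_of_mul_eq_one_left t2
  have h3 : t * vec v * t⁻¹ = (vec v)⁻¹ := by
    rw [hv, tinv]
    calc t * (t * (g * t * g⁻¹)) * t = (t * t) * (g * t * g⁻¹) * t := by group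
      _ = g * t * g⁻¹ * t := by rw [t2, one_mul]
      _ = (t⁻¹ * (g * t⁻¹ * g⁻¹))⁻¹ := by group
      _ = (t * (g * t * g⁻¹))⁻¹ := by rw [tinv]
  rw [h.2, ← vec_neg] at h3
  have h4 : rc c v = -v := vec_inj h3
  have h5 : v = (-(Bf v c)) • c := by
    unfold rc at h4
    have h6 : v + v = Bf v c • c := by
      calc v + v = (v - Bf v c • c) + v + Bf v c • c := by abel
        _ = _ := by rw [h4, neg_add_cancel, zero_add]
    have h7 : v + v = -v := by
      have : (2 : ZMod 3) • v = (-1 : ZMod 3) • v := by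
        have : (2 : ZMod 3) = -1 := by decide
        rw [this]
      rwa [two_smul, neg_one_smul] at this
    rw [neg_smul, ← h6, h7, neg_neg]
  have h6 : Commute g (vec v) := by
    rw [h5, vec_smul]
    exact hg.pow_right _
  have h7 : g * t = t * vec v * g := by
    rw [hv]
    calc g * t = (g * t * g⁻¹) * g := by group
      _ = (t * t) * (g * t * g⁻¹) * g := by rw [t2, one_mul]
      _ = _ := by group
  have h8 : vec v * vec v * vec v = 1 := by
    have := vec_cube v
    rwa [pow_succ, pow_two] at this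
  exact cube_aux h7 h6.eq h8

/-- fixed vectors of norm 1 are orthogonal to `y2` -/
theorem lam' {g : Fi24} (hN : g ∈ N) (h3 : g ^ 3 = x2) {c : V} (hQ : Qf c = 1) (hg : Commute g (vec c)) :
    Bf y2 c = 0 := by
  obtain ⟨t, ht, -, htN, htR⟩ := exists_transp hQ
  have hC : Cen t c := ⟨hQ, fun v => by
    have := Ph_spec ⟨t, htN⟩ v
    rw [htR, ac_R1] at this
    exact this⟩
  have h1 := lam hN hg ht hC
  rw [h3, x2_vec] at h1
  have h2 : t * vec y2 * t⁻¹ = vec y2 := by rw [← h1.eq, mul_inv_cancel_right]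
  rw [hC.2] at h2
  have h4 := vec_inj h2
  unfold rc at h4
  have h5 : Bf y2 c • c = 0 := by
    have := sub_eq_self.1 h4
    exact this
  rcases smul_eq_zero.1 h5 with h | h
  · exact h
  · rw [h] at hQ
    exact absurd hQ (by decide)

/-- the values of the form on the fixed vectors -/
theorem ne_two {g : Fi24} (hY : g ∈ NY) (h3 : g ^ 3 = x2) {u : W} (hu : a6 (Ps ⟨g, hY⟩) u = u) :
    Cfsg.Agent.H304.R7.Quad.q u ≠ 2 := by
  intro hq
  have hQ : Qf (PL u) = 2 := by rw [Q_PL]; exact hq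
  have hc : Commute g (vec (PL u)) := by
    have h1 := Ps_spec ⟨g, hY⟩ u
    rw [hu] at h1
    have h2 := Ph_spec ⟨g, NY_le_N hY⟩ (PL u)
    rw [h1] at h2
    exact mul_inv_eq_iff_eq_mul.1 h2
  have hc2 : Commute g (vec y2) := by rw [← x2_vec, ← h3]; exact (Commute.refl g).pow_right 3
  have h1 := lam' (NY_le_N hY) h3 (c := PL u + y2) ?_ ?_
  · rw [Bf_add_right, Bf_comm, Bf_PL_y, zero_add, Bf_self, Qy2] at h1
    exact absurd h1 (by decide)
  · rw [Qf_add, hQ, Qy2, Bf_PL_y]
    decide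
  · rw [vec_add]
    exact hc.mul_right hc2

/-- the number of fixed vectors -/
theorem card_fx_le {g : Fi24} (hY : g ∈ NY) (h3 : g ^ 3 = x2) : Nat.card (fx (a6l (Ps ⟨g, hY⟩))) ≤ 27 :=
  Cfsg.Agent.H304.R7.Quad.card_not_two fun _ hu => ne_two hY h3 (mem_fx.1 hu)

/-- the vectors commuting with `g` -/
theorem card_comm {g : Fi24} (hY : g ∈ NY) (h3 : g ^ 3 = x2) : Nat.card {v : V // Commute g (vec v)} ≤ 81 := by
  have hc2 : Commute g (vec y2) := by rw [← x2_vec, ← h3]; exact (Commute.refl g).pow_right 3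
  have hm : ∀ v : {v : V // Commute g (vec v)}, LL (v : V) ∈ fx (a6l (Ps ⟨g, hY⟩)) := by
    intro v
    have e1 : PL (LL (v : V)) = (v : V) + (-Bf (v : V) y2) • y2 := by rw [PL_LL, neg_smul, sub_eq_add_neg]
    have h1 : Commute g (vec (PL (LL (v : V)))) := by
      rw [e1, vec_add, vec_smul]
      exact v.2.mul_right (hc2.pow_right _)
    have h2 := ac_fix (NY_le_N hY) h1
    rw [mem_fx]
    apply PL_inj
    show PL (a6 (Ps ⟨g, hY⟩) (LL (v : V))) = _
    rw [← Ps_spec ⟨g, hY⟩]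
    exact h2
  have hinj : Function.Injective (fun v : {v : V // Commute g (vec v)} =>
      ((Bf (v : V) y2, (⟨LL (v : V), hm v⟩ : fx (a6l (Ps ⟨g, hY⟩)))) : ZMod 3 × fx (a6l (Ps ⟨g, hY⟩)))) := by
    intro v w hvw
    have e1 : Bf (v : V) y2 = Bf (w : V) y2 := congrArg Prod.fst hvw
    have e2 : LL (v : V) = LL (w : V) := congrArg (fun x : ZMod 3 × fx (a6l (Ps ⟨g, hY⟩)) => (x.2 : W)) hvw
    apply Subtype.ext
    have h1 := PL_LL (v : V)
    have h2 := PL_LL (w : V)
    rw [e1, e2, h2] at h1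
    exact (sub_left_injective h1).symm
  calc Nat.card {v : V // Commute g (vec v)} ≤ Nat.card (ZMod 3 × fx (a6l (Ps ⟨g, hY⟩))) :=
        Nat.card_le_card_of_injective _ hinj
    _ = 3 * Nat.card (fx (a6l (Ps ⟨g, hY⟩))) := by rw [Nat.card_prod, Nat.card_zmod]
    _ ≤ 3 * 27 := Nat.mul_le_mul_left _ (card_fx_le hY h3)
    _ = 81 := by norm_num

/-- the centre of a transposition commuting with `g` commutes with `g` -/
theorem comm_centre {g : Fi24} (hN : g ∈ N) (ho : Odd (orderOf g)) {t : Fi24} {c : V} (h : Cen t c) (hg : Commute g t) :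
    Commute g (vec c) := by
  have h1 := h.conj hN
  rw [hg.eq, mul_inv_cancel_right] at h1
  -- the two centres agree up to sign
  have hQ := h.1
  have hpm : ac (Ph ⟨g, hN⟩) c = c ∨ ac (Ph ⟨g, hN⟩) c = -c := by
    rcases Cen.of_comm h1 h (Commute.refl t) with h2 | h2 | h2
    · exfalso
      have h3 := h.2 c
      rw [h1.2 c] at h3
      have h4 := vec_inj h3
      unfold rc at h4
      rw [Bf_comm c, h2, zero_smul, sub_zero, Bf_self, hQ, mul_one] at h4
      have h5 : (2 : ZMod 3) • c = 0 := by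
        have := sub_eq_self.1 h4.symm
        exact this
      rcases smul_eq_zero.1 h5 with h6 | h6
      · exact absurd h6 (by decide)
      · rw [h6] at hQ
        exact absurd hQ (by decide)
    · exact Or.inl h2
    · exact Or.inr h2
  have hs := Ph_spec ⟨g, hN⟩ c
  rcases hpm with h2 | h2
  · rw [h2] at hs
    exact mul_inv_eq_iff_eq_mul.1 hs
  · exfalso
    rw [h2, vec_neg] at hs
    have h3 : g * vec c * g⁻¹ = (vec c)⁻¹ := hs
    obtain ⟨k, hk⟩ := ho
    have h4 : g ^ 2 * vec c = vec c * g ^ 2 := by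
      have h5 : g ^ 2 * vec c * (g ^ 2)⁻¹ = vec c := by
        calc g ^ 2 * vec c * (g ^ 2)⁻¹ = g * (g * vec c * g⁻¹) * g⁻¹ := by rw [pow_two]; group
          _ = g * (vec c)⁻¹ * g⁻¹ := by rw [h3]
          _ = (g * vec c * g⁻¹)⁻¹ := by group
          _ = vec c := by rw [h3, inv_inv]
      exact mul_inv_eq_iff_eq_mul.1 h5
    have h5 : Commute (g ^ 2) (vec c) := h4
    have h6 : Commute g (vec c) := by
      have h7 : g = (g ^ 2) ^ (k + 1) := by
        rw [← pow_mul, show 2 * (k + 1) = 2 * k + 1 + 1 by ring, ← hk, pow_succ, pow_orderOf_eq_one, one_mul]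
      rw [h7]
      exact h5.pow_left _
    rw [h6.eq, mul_inv_cancel_right, ← vec_neg] at h3
    have h8 := vec_inj h3
    have h9 : (2 : ZMod 3) • c = 0 := by
      rw [two_smul]
      nth_rewrite 1 [h8]
      exact neg_add_cancel c
    rcases smul_eq_zero.1 h9 with h | h
    · exact absurd h (by decide)
    · rw [h] at hQ
      exact absurd hQ (by decide)

theorem Cen_a : Cen (gn .a) (Pi.single 5 1) := by
  refine ⟨Qf_single 5, fun v => ?_⟩
  have h := act 5 v
  rw [tv5] at h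
  exact h

/-- two commuting transpositions of `C(x2)` with centres conjugate to those of `l` and `a` do not both commute with `g` -/
theorem not_both {g y : Fi24} (hN : g ∈ N) (ho : Odd (orderOf g)) (h3 : g ^ 3 = x2) (hyN : y ∈ N) (hy : y * x2 = x2 * y)
    (h1 : Commute g (y * gn .l * y⁻¹)) (h2 : Commute g (y * gn .a * y⁻¹)) : False := by
  have c1 := Cen_l.conj hyN
  have c2 := Cen_a.conj hyN
  have g1 := comm_centre hN ho c1 h1
  have g2 := comm_centre hN ho c2 h2
  have hyy : ac (Ph ⟨y, hyN⟩) y2 = y2 := ac_fix hyN (by rw [← x2_vec]; exact hy)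
  have gy : Commute g (vec y2) := by rw [← x2_vec, ← h3]; exact (Commute.refl g).pow_right 3
  have b1 : Bf (ac (Ph ⟨y, hyN⟩) r1) y2 = 0 := by
    rw [← hyy, Bf_ac]
    decide
  have b2 : Bf (ac (Ph ⟨y, hyN⟩) (Pi.single 5 1)) y2 = 0 := by
    rw [← hyy, Bf_ac]
    decide
  have b3 : Bf (ac (Ph ⟨y, hyN⟩) r1) (ac (Ph ⟨y, hyN⟩) (Pi.single 5 1)) = 0 := by
    rw [Bf_ac]
    decide
  have h4 := lam' hN h3 (c := ac (Ph ⟨y, hyN⟩) r1 + ac (Ph ⟨y, hyN⟩) (Pi.single 5 1) + y2) ?_ ?_
  · rw [Bf_comm, Bf_add_left, Bf_add_left, b1, b2, Bf_self, Qy2] at h4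
    exact absurd h4 (by decide)
  · rw [Qf_add, Qf_add, Qf_ac, Qf_ac, b3, Bf_add_left, b1, b2, Qr1, Qf_single, Qy2]
    decide
  · rw [vec_add, vec_add]
    exact (g1.mul_right g2).mul_right gy

end Cfsg.Agent.H304.R7.XOne
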